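import Groth.Agent.DeltaBaseLib.Core
import Groth.Agent.NodalLib.Conj
import Groth.Agent.GeomRedFieldLib.Locus
import Groth.Agent.AlgSpLib.ReducedStalk
import Groth.Agent.SweepSix.FieldsRed

/-!
# The local rings of `X_K` as localisations of `O_{X,x} ⊗_k K`
-/

set_option autoImplicit false
set_option backward.isDefEq.respectTransparency false
set_option linter.style.haveILetI false

universe u

open CategoryTheory CategoryTheory.Limits AlgebraicGeometry IsLocalRing TensorProduct GeomRedFieldLib

noncomputable section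

namespace DeltaBaseLib

/-- Along a morphism bijective on local rings from an affine scheme the local ring is a localisation, compatibly with
the local ring below. -/
theorem exists_stalk_equiv_localization {X Y : Scheme.{u}} (f : Y ⟶ X) (y : Y) {T : Type u} [CommRing T]
    (j : Spec (CommRingCat.of T) ⟶ Y) (P : PrimeSpectrum T) (hy : j P = y)
    (hbij : Function.Bijective (j.stalkMap P).hom) (ι : X.presheaf.stalk (f y) →+* T)
    (h : j ≫ f = Spec.map (CommRingCat.ofHom ι) ≫ X.fromSpecStalk (f y)) :
    ∃ E : Y.presheaf.stalk y ≃+* Localization.AtPrime P.asIdeal,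
      ∀ a, E ((f.stalkMap y).hom a) = algebraMap T _ (ι a) := by
  subst hy
  let e1 := RingEquiv.ofBijective (j.stalkMap P).hom hbij
  let e2 := (Spec.stalkIso (CommRingCat.of T) P).commRingCatIsoToRingEquiv
  let g : X.presheaf.stalk (f (j P)) ⟶ CommRingCat.of (Localization.AtPrime P.asIdeal) :=
    f.stalkMap (j P) ≫ j.stalkMap P ≫ (Spec.stalkIso (CommRingCat.of T) P).hom
  have hg : g = CommRingCat.ofHom ι ≫ CommRingCat.ofHom (algebraMap T (Localization.AtPrime P.asIdeal)) := by
    apply Spec.map_injective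
    rw [← cancel_mono (X.fromSpecStalk (f (j P)))]
    simp only [g, Spec.map_comp, Category.assoc]
    rw [Scheme.SpecMap_stalkMap_fromSpecStalk, Scheme.SpecMap_stalkMap_fromSpecStalk_assoc, h, ← Category.assoc,
      specMap_stalkIso_fromSpecStalk]
  exact ⟨e1.trans e2, fun a ↦ congr_arg (fun t ↦ t.hom a) hg⟩

variable (k : Type u) [Field k] {X : Scheme.{u}} [X.Over (Spec (CommRingCat.of k))]
  (K : Type u) [Field K] [Algebra k K]

/-- Every point of `X_K` is a prime of `O_{X,x} ⊗ K` over the maximal ideal, with the same local ring. -/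
theorem exists_model (y : Curv2.bc k X K) :
    letI := Curv2.stalkAlgebra k X (Curv2.bcFst k X K y)
    ∃ (P : Ideal (X.presheaf.stalk (Curv2.bcFst k X K y) ⊗[k] K)) (_ : P.IsPrime),
      P.comap (algebraMap (X.presheaf.stalk (Curv2.bcFst k X K y)) _) = maximalIdeal _ ∧
      ∃ E : (Curv2.bc k X K).presheaf.stalk y ≃+* Localization.AtPrime P,
        ∀ a, E (((Curv2.bcFst k X K).stalkMap y).hom a) = algebraMap _ _ a := by
  let x := Curv2.bcFst k X K y
  letI := Curv2.stalkAlgebra k X x
  let A := X.presheaf.stalk x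
  have hR : X.fromSpecStalk x ≫ (X ↘ Spec (CommRingCat.of k)) = str k A := fromSpecStalk_comp_over X x
  haveI := AlgSpLib.flat_fromSpecStalk x
  let m : pullback (str k A) (str k K) ⟶ Curv2.bc k X K :=
    pullback.map _ _ _ _ (X.fromSpecStalk x) (𝟙 _) (𝟙 _) (by simp [hR, A]) (by simp)
  have sq : IsPullback m (pullback.fst (str k A) (str k K)) (Curv2.bcFst k X K) (X.fromSpecStalk x) := by
    refine (IsPullback.of_bot (v₂₁ := Curv2.bcSnd k X K) (h₃₁ := str k K)
      (v₂₂ := X ↘ Spec (CommRingCat.of k)) ?_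
      (pullback.lift_fst _ _ _).symm (IsPullback.of_hasPullback _ _)).flip
    rw [show m ≫ Curv2.bcSnd k X K = pullback.snd (str k A) (str k K) from
      (pullback.lift_snd _ _ _).trans (Category.comp_id _), hR]
    exact IsPullback.of_hasPullback _ _
  haveI : Flat m := MorphismProperty.of_isPullback sq.flip ‹_›
  haveI : IsPreimmersion m := MorphismProperty.of_isPullback sq.flip inferInstance
  let e : Spec (CommRingCat.of (A ⊗[k] K)) ≅ pullback (str k A) (str k K) := (pullbackSpecIso k A K).symm
  let j : Spec (CommRingCat.of (A ⊗[k] K)) ⟶ Curv2.bc k X K := e.hom ≫ m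
  have hj1 : j ≫ Curv2.bcFst k X K =
      Spec.map (CommRingCat.ofHom (algebraMap A (A ⊗[k] K))) ≫ X.fromSpecStalk x := by
    simp only [j, Category.assoc, sq.w, e, Iso.symm_hom, pullbackSpecIso_inv_fst_assoc]
    rfl
  obtain ⟨v, hv, -⟩ := Scheme.exists_preimage_of_isPullback sq y (closedPoint _)
    Scheme.fromSpecStalk_closedPoint.symm
  obtain ⟨P, rfl⟩ : ∃ P, e.hom P = v := ⟨e.inv v, by rw [← Scheme.Hom.comp_apply, e.inv_hom_id]; rfl⟩
  have hjy : j P = y := by rw [Scheme.Hom.comp_apply]; exact hv
  refine ⟨P.asIdeal, P.isPrime, ?_, ?_⟩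
  · have h1 : X.fromSpecStalk x (Spec.map (CommRingCat.ofHom (algebraMap A (A ⊗[k] K))) P) =
        X.fromSpecStalk x (closedPoint A) := by
      rw [Scheme.fromSpecStalk_closedPoint]
      exact (congrArg (fun t : Spec _ ⟶ X => t P) hj1).symm.trans (congrArg (Curv2.bcFst k X K) hjy)
    exact congrArg PrimeSpectrum.asIdeal ((X.fromSpecStalk x).isEmbedding.injective h1)
  · obtain ⟨E, hE⟩ := exists_stalk_equiv_localization (Curv2.bcFst k X K) y j P hjy
      (SweepSix.FieldsRed.isIso_stalkMap j P) (algebraMap A (A ⊗[k] K)) hj1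
    exact ⟨E, fun a => (hE a).trans (IsScalarTower.algebraMap_apply _ _ _ a).symm⟩

end DeltaBaseLib

end
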