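import Groth.Agent.NormDimOneLib.Chart
import Groth.Prelude.Def_CurvBase
import Mathlib.AlgebraicGeometry.Geometrically.Reduced

/-!
# The points of the normalisation over `x` and the maximal ideals of the integral closure of `O_{X,x}`
-/

set_option autoImplicit false
set_option backward.isDefEq.respectTransparency false
set_option linter.style.haveILetI false

universe u

open CategoryTheory CategoryTheory.Limits AlgebraicGeometry IsLocalRing
open scoped TensorProduct

noncomputable section

namespace DeltaBaseLib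

/-- A geometrically reduced field extension stays reduced after base change. -/
theorem isReduced_tensor_of_geomReduced {k : Type u} [Field k] {L : CommRingCat.{u}} (φ : k →+* L)
    (h : GeometricallyReduced (Spec.map (CommRingCat.ofHom φ))) (K : Type u) [Field K] [Algebra k K] :
    letI := φ.toAlgebra
    _root_.IsReduced (L ⊗[k] K) := by
  letI := φ.toAlgebra
  haveI hr : AlgebraicGeometry.IsReduced (pullback (Spec.map (CommRingCat.ofHom (algebraMap k L)))
      (Spec.map (CommRingCat.ofHom (algebraMap k K)))) :=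
    h.geometrically_isReduced _ _ _ (IsPullback.of_hasPullback _ _)
  haveI : AlgebraicGeometry.IsReduced (Spec (CommRingCat.of (L ⊗[k] K))) :=
    isReduced_of_isOpenImmersion (pullbackSpecIso k L K).inv
  exact (affine_isReduced_iff (CommRingCat.of (L ⊗[k] K))).1 ‹_›

variable (k : Type u) [Field k] (X : Scheme.{u}) [X.Over (Spec (CommRingCat.of k))]
  [IsIntegral X] [QuasiCompact (X.fromSpecStalk (genericPoint X))]
  [QuasiSeparated (X.fromSpecStalk (genericPoint X))]

/-- Every maximal ideal of the integral closure comes from a point of the normalisation with the same residue field. -/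
theorem exists_residue_equiv (x : X)
    (Q : Ideal (integralClosure (X.presheaf.stalk x) (FractionRing (X.presheaf.stalk x)))) [Q.IsMaximal] :
    letI : (Curv2.normalization X).Over (Spec (CommRingCat.of k)) :=
      ⟨Curv2.normalizationι X ≫ (X ↘ (Spec (CommRingCat.of k)))⟩
    ∃ x' : ↥(Curv2.normalization X), (Curv2.normalizationι X).base x' = x ∧
      ∃ g : (Curv2.normalization X).residueField x' →+*
          (integralClosure (X.presheaf.stalk x) (FractionRing (X.presheaf.stalk x)) ⧸ Q),
        Function.Bijective g ∧ ∀ c, g (Curv2.resMap k (Curv2.normalization X) x' c) =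
          algebraMap (X.presheaf.stalk x) _ (Curv2.stalkMap k X x c) := by
  letI : (Curv2.normalization X).Over (Spec (CommRingCat.of k)) :=
    ⟨Curv2.normalizationι X ≫ (X ↘ (Spec (CommRingCat.of k)))⟩
  let ν := Curv2.normalizationι X
  let N := Curv2.normalization X
  haveI : IsIntegralHom ν := inferInstanceAs (IsIntegralHom (X.fromSpecStalk (genericPoint X)).fromNormalization)
  let A := X.presheaf.stalk x
  let A' := integralClosure A (FractionRing A)
  letI : Field (A' ⧸ Q) := Ideal.Quotient.field Q
  obtain ⟨U, hU, hxU, -⟩ := exists_isAffineOpen_mem_and_subset (X := X) (x := x) (U := ⊤) trivial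
  haveI : Nonempty U := ⟨⟨x, hxU⟩⟩
  have hV : IsAffineOpen (ν ⁻¹ᵁ U) := hU.preimage ν
  obtain ⟨ψ, hψ, hψa, -, hψr⟩ := NormDimOneLib.exists_chart X ⟨U, hU⟩
  let R := Γ(X, U)
  let R' := Γ(N, ν ⁻¹ᵁ U)
  let p := (hU.primeIdealOf ⟨x, hxU⟩).asIdeal
  letI : Algebra R A := (X.presheaf.germ U x hxU).hom.toAlgebra
  haveI hloc : IsLocalization.AtPrime A p := hU.isLocalization_stalk ⟨x, hxU⟩
  letI : Algebra R X.functionField := (X.germToFunctionField U).hom.toAlgebra
  haveI : IsScalarTower R A X.functionField :=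
    IsScalarTower.of_algebraMap_eq fun r => (X.algebraMap_germ_eq_germToFunctionField hxU r).symm
  haveI : IsDomain A := inferInstance
  let eF : FractionRing A ≃ₐ[A] X.functionField := FractionRing.algEquiv A X.functionField
  let eI := eF.mapIntegralClosure
  -- the sections of the normalisation inside the integral closure of the local ring
  have hint : ∀ m : R', IsIntegral A (ψ m) := fun m => by
    letI : Algebra R R' := (ν.app U).hom.toAlgebra
    letI : Algebra R' X.functionField := ψ.toAlgebra
    haveI : IsScalarTower R R' X.functionField := IsScalarTower.of_algebraMap_eq fun a => (hψa a).symm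
    have h1 : IsIntegral R m := ν.isIntegral_app U hU m
    exact (h1.algebraMap (B := X.functionField)).tower_top
  let θ0 : R' →+* integralClosure A X.functionField := ψ.codRestrict _ hint
  let θ : R' →+* A' := eI.symm.toRingHom.comp θ0
  have hθa : ∀ a : R, θ ((ν.app U).hom a) = algebraMap A A' (algebraMap R A a) := fun a => by
    show eI.symm (θ0 _) = _
    rw [← eI.symm.commutes]
    congr 1
    refine Subtype.ext ?_
    show ψ _ = algebraMap A X.functionField (algebraMap R A a)
    rw [hψa a, ← IsScalarTower.algebraMap_apply R A X.functionField]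
    rfl
  let χ : R' →+* A' ⧸ Q := (Ideal.Quotient.mk Q).comp θ
  have hχs : ∀ z : A' ⧸ Q, ∃ m s, χ s ≠ 0 ∧ z * χ s = χ m := by
    intro z
    obtain ⟨z, rfl⟩ := Ideal.Quotient.mk_surjective z
    obtain ⟨s, hs⟩ := IsIntegral.exists_multiple_integral_of_isLocalization p.primeCompl
      ((eI z : integralClosure A X.functionField) : X.functionField) (eI z).2
    obtain ⟨m, hm⟩ := hψr _ hs
    refine ⟨m, (ν.app U).hom s, ?_, ?_⟩
    · show Ideal.Quotient.mk Q (θ ((ν.app U).hom s)) ≠ 0
      rw [hθa]
      exact (((IsLocalization.map_units A s).map (algebraMap A A')).map (Ideal.Quotient.mk Q)).ne_zero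
    · show Ideal.Quotient.mk Q z * Ideal.Quotient.mk Q (θ _) = Ideal.Quotient.mk Q (θ m)
      rw [← map_mul, hθa]
      congr 1
      apply eI.injective
      rw [map_mul, eI.commutes]
      show _ = eI (eI.symm (θ0 m))
      rw [eI.apply_symm_apply]
      refine Subtype.ext ?_
      show ((eI z : integralClosure A X.functionField) : X.functionField) *
        algebraMap A X.functionField (algebraMap R A s) = ψ m
      rw [hm, Submonoid.smul_def, Algebra.smul_def, ← IsScalarTower.algebraMap_apply R A X.functionField, mul_comm]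
  let q : PrimeSpectrum R' := ⟨RingHom.ker χ, RingHom.ker_isPrime χ⟩
  let x' : N := hV.fromSpec q
  have hx'V : x' ∈ ν ⁻¹ᵁ U := hV.range_fromSpec.le (Set.mem_range_self q)
  haveI : q.asIdeal.IsPrime := q.isPrime
  have hqA : q.asIdeal.comap (ν.app U).hom = p := by
    ext a
    show Ideal.Quotient.mk Q (θ ((ν.app U).hom a)) = 0 ↔ _
    rw [hθa, Ideal.Quotient.eq_zero_iff_mem]
    have hQ : Q.comap (algebraMap A A') = maximalIdeal A :=
      IsLocalRing.eq_maximalIdeal (Ideal.isMaximal_comap_of_isIntegral_of_isMaximal Q)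
    rw [← Ideal.mem_comap, hQ]
    exact IsLocalization.AtPrime.to_map_mem_maximal_iff A p a
  have hx' : ν x' = x := by
    have h1 := IsAffineOpen.SpecMap_appLE_fromSpec ν hU hV (le_refl (ν ⁻¹ᵁ U))
    have h2 : ν (hV.fromSpec q) = hU.fromSpec (Spec.map (ν.appLE U (ν ⁻¹ᵁ U) le_rfl) q) := by
      rw [← Scheme.Hom.comp_apply, ← h1, Scheme.Hom.comp_apply]
    refine h2.trans ?_
    rw [show Spec.map (ν.appLE U (ν ⁻¹ᵁ U) le_rfl) q = hU.primeIdealOf ⟨x, hxU⟩ from PrimeSpectrum.ext (by
      rw [Scheme.Hom.appLE_eq_app]; exact hqA)]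
    exact hU.fromSpec_primeIdealOf ⟨x, hxU⟩
  refine ⟨x', hx', ?_⟩
  letI : Algebra R' (N.presheaf.stalk x') := (N.presheaf.germ (ν ⁻¹ᵁ U) x' hx'V).hom.toAlgebra
  haveI : IsLocalization.AtPrime (N.presheaf.stalk x') q.asIdeal := hV.isLocalization_stalk' q hx'V
  have hu : ∀ s : q.asIdeal.primeCompl, IsUnit (χ s) := fun s => isUnit_iff_ne_zero.2 s.2
  let g0 : N.presheaf.stalk x' →+* A' ⧸ Q := IsLocalization.lift hu
  have hg0 : ∀ m, g0 (N.presheaf.germ (ν ⁻¹ᵁ U) x' hx'V m) = χ m := fun m => IsLocalization.lift_eq hu m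
  haveI : IsLocalHom g0 := ⟨fun a ha => by
    obtain ⟨⟨m, s⟩, hms⟩ := IsLocalization.surj q.asIdeal.primeCompl a
    have hm : χ m ≠ 0 := by
      rw [← hg0, show (N.presheaf.germ (ν ⁻¹ᵁ U) x' hx'V m) = algebraMap R' _ m from rfl, ← hms, map_mul]
      exact mul_ne_zero ha.ne_zero ((IsLocalization.map_units _ s).map g0).ne_zero
    have h3 : IsUnit (algebraMap R' (N.presheaf.stalk x') m) :=
      IsLocalization.map_units _ (⟨m, hm⟩ : q.asIdeal.primeCompl)
    rw [← hms] at h3
    exact isUnit_of_mul_isUnit_left h3⟩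
  let g : N.residueField x' →+* A' ⧸ Q := IsLocalRing.ResidueField.lift g0
  have hg : ∀ a, g (N.residue x' a) = g0 a := fun a => IsLocalRing.ResidueField.lift_residue_apply g0 a
  refine ⟨g, ⟨g.injective, fun z => ?_⟩, fun c => ?_⟩
  · obtain ⟨m, s, hs, hz⟩ := hχs z
    refine ⟨N.residue x' (IsLocalization.mk' _ m (⟨s, hs⟩ : q.asIdeal.primeCompl)), (hg _).trans ?_⟩
    refine (IsLocalization.lift_mk'_spec (g := χ) (hg := hu) m z _).2 ?_
    show χ m = χ s * z
    rw [← hz, mul_comm]
  · have hres : Curv2.resMap k N x' c = N.residue x' (N.presheaf.germ (ν ⁻¹ᵁ U) x' hx'V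
        ((ν.app U).hom (X.presheaf.map (homOfLE le_top).op (Coh.toGlobal (X ↘ Spec (CommRingCat.of k)) c)))) := by
      refine congrArg (N.residue x') ?_
      have h1 : ∀ a : Γ(X, ⊤), (ν.app U).hom (X.presheaf.map (homOfLE le_top : U ⟶ ⊤).op a) =
          N.presheaf.map ((TopologicalSpace.Opens.map ν.base).map (homOfLE le_top : U ⟶ ⊤)).op (ν.app ⊤ a) :=
        fun a => ConcreteCategory.congr_hom (ν.naturality (homOfLE le_top : U ⟶ ⊤).op) a
      rw [h1]
      refine Eq.trans ?_ (TopCat.Presheaf.germ_res_apply N.presheaf _ _ hx'V _).symm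
      rfl
    rw [hres, hg, hg0]
    show Ideal.Quotient.mk Q (θ _) = _
    rw [hθa]
    show Ideal.Quotient.mk Q (algebraMap A A' (X.presheaf.germ U x hxU (X.presheaf.map _ _))) = _
    rw [TopCat.Presheaf.germ_res_apply]
    rfl

end DeltaBaseLib

end
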