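import Groth.Agent.DeltaBaseLib.Fibre
import Groth.Agent.DeltaBaseLib.Model
import Groth.Agent.DeltaBaseLib.Res
import Groth.Agent.NagataFG.Main
import Groth.Agent.S0566

/-!
# Base change of `δ` along a field extension
-/

set_option autoImplicit false
set_option linter.style.haveILetI false

universe u

open CategoryTheory CategoryTheory.Limits AlgebraicGeometry IsLocalRing
open scoped TensorProduct

noncomputable section

namespace DeltaBaseLib

theorem isNagata_of_field (k : Type u) [Field k] : CAlg.IsNagata k := by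
  refine ⟨inferInstance, fun q _ L _ _ _ _ hL => ?_⟩
  haveI : q.IsMaximal := by
    rcases Ideal.eq_bot_or_top q with h | h
    · subst h; exact Ideal.bot_isMaximal
    · exact absurd h (Ideal.IsPrime.ne_top inferInstance)
  letI : Field (k ⧸ q) := Ideal.Quotient.field q
  haveI : Module.Finite (k ⧸ q) (FractionRing (k ⧸ q)) :=
    Module.Finite.of_surjective (Algebra.linearMap (k ⧸ q) (FractionRing (k ⧸ q)))
      ((Field.toIsField (k ⧸ q)).localization_map_bijective (M := nonZeroDivisors (k ⧸ q)) zero_notMem_nonZeroDivisors).2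
  haveI : Module.Finite (k ⧸ q) L := Module.Finite.trans (FractionRing (k ⧸ q)) L
  haveI : IsNoetherian (k ⧸ q) L := isNoetherian_of_isNoetherianRing_of_finite (k ⧸ q) L
  exact Module.IsNoetherian.finite _ _

theorem isNagata_stalk (k : Type u) [Field k] {X : Scheme.{u}} [X.Over (Spec (CommRingCat.of k))]
    [LocallyOfFiniteType (X ↘ (Spec (CommRingCat.of k)))] (x : X) : CAlg.IsNagata (X.presheaf.stalk x) := by
  obtain ⟨U, hU, hxU, -⟩ := exists_isAffineOpen_mem_and_subset (X := X) (x := x) (U := ⊤) trivial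
  let f := X ↘ (Spec (CommRingCat.of k))
  have h1 : RingHom.FiniteType (f.appLE ⊤ U le_top).hom :=
    HasRingHomProperty.appLE @LocallyOfFiniteType f inferInstance ⟨⊤, isAffineOpen_top _⟩ ⟨U, hU⟩ le_top
  have h0 : CAlg.IsNagata Γ(Spec (CommRingCat.of k), ⊤) :=
    NagataFG.isNagata_of_surjective (Scheme.ΓSpecIso (CommRingCat.of k)).inv.hom
      (Scheme.ΓSpecIso (CommRingCat.of k)).symm.commRingCatIsoToRingEquiv.surjective (isNagata_of_field k)
  algebraize [(f.appLE ⊤ U le_top).hom]
  letI : Algebra Γ(X, U) (X.presheaf.stalk x) := (X.presheaf.germ U x hxU).hom.toAlgebra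
  haveI := hU.isLocalization_stalk ⟨x, hxU⟩
  exact NagataFG.isNagata_of_isLocalization (hU.primeIdealOf ⟨x, hxU⟩).asIdeal.primeCompl _
    (Groth.Agent.S0566.result _ h0 Γ(X, U))

variable {k : Type u} [Field k] {X : Scheme.{u}} [X.Over (Spec (CommRingCat.of k))]
  [LocallyOfFiniteType (X ↘ (Spec (CommRingCat.of k)))] {K : Type u} [Field K] [Algebra k K]

omit [LocallyOfFiniteType (X ↘ (Spec (CommRingCat.of k)))] in
theorem flat_bcFst : Flat (Curv2.bcFst k X K) := by
  haveI : Flat (Spec.map (CommRingCat.ofHom (algebraMap k K))) :=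
    Flat.SpecMap_iff.2 (RingHom.flat_algebraMap_iff.2 inferInstance)
  exact MorphismProperty.of_isPullback (IsPullback.of_hasPullback (X ↘ Spec (CommRingCat.of k)) (Spec.map (CommRingCat.ofHom (algebraMap k K)))).flip this

theorem deltaInv_le_bc (y : Curv2.bc k X K) (hx : Curv2.IsGeomReducedAt k X (Curv2.bcFst k X K y))
    (hdx : ringKrullDim (X.presheaf.stalk (Curv2.bcFst k X K y)) = 1) :
    Curv2.deltaInv (X.presheaf.stalk (Curv2.bcFst k X K y)) ≤
      Curv2.deltaInv ((Curv2.bc k X K).presheaf.stalk y) := by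
  haveI := flat_bcFst (k := k) (X := X) (K := K)
  letI := ((Curv2.bcFst k X K).stalkMap y).hom.toAlgebra
  haveI : Module.Flat (X.presheaf.stalk (Curv2.bcFst k X K y)) ((Curv2.bc k X K).presheaf.stalk y) :=
    Flat.stalkMap (Curv2.bcFst k X K) y
  haveI : IsLocalHom (algebraMap (X.presheaf.stalk (Curv2.bcFst k X K y)) ((Curv2.bc k X K).presheaf.stalk y)) :=
    inferInstanceAs (IsLocalHom ((Curv2.bcFst k X K).stalkMap y).hom)
  haveI hred : _root_.IsReduced ((Curv2.bc k X K).presheaf.stalk y) := hx K y rfl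
  haveI : Module.FaithfullyFlat (X.presheaf.stalk (Curv2.bcFst k X K y)) ((Curv2.bc k X K).presheaf.stalk y) :=
    Module.FaithfullyFlat.of_flat_of_isLocalHom
  haveI : _root_.IsReduced (X.presheaf.stalk (Curv2.bcFst k X K y)) :=
    isReduced_of_injective (algebraMap _ ((Curv2.bc k X K).presheaf.stalk y)) (FaithfulSMul.algebraMap_injective _ _)
  exact deltaInv_le (isNagata_stalk k _) hdx

theorem deltaInv_eq_bc [AlgebraicGeometry.IsIntegral X] [QuasiCompact (X.fromSpecStalk (genericPoint X))]
    [QuasiSeparated (X.fromSpecStalk (genericPoint X))] (y : Curv2.bc k X K)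
    (hdx : ringKrullDim (X.presheaf.stalk (Curv2.bcFst k X K y)) = 1)
    (hsep : letI : (Curv2.normalization X).Over (Spec (CommRingCat.of k)) :=
        ⟨Curv2.normalizationι X ≫ (X ↘ (Spec (CommRingCat.of k)))⟩
      ∀ x' : ↥(Curv2.normalization X), (Curv2.normalizationι X).base x' = (Curv2.bcFst k X K).base y →
        GeometricallyReduced (Spec.map (CommRingCat.ofHom (Curv2.resMap k (Curv2.normalization X) x'))))
    (hdy : ringKrullDim ((Curv2.bc k X K).presheaf.stalk y) = 1) :
    Curv2.deltaInv (X.presheaf.stalk (Curv2.bcFst k X K y)) =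
      Curv2.deltaInv ((Curv2.bc k X K).presheaf.stalk y) := by
  let x := Curv2.bcFst k X K y
  let A := X.presheaf.stalk x
  let B := (Curv2.bc k X K).presheaf.stalk y
  let A' := integralClosure A (FractionRing A)
  letI := Curv2.stalkAlgebra k X x
  haveI := flat_bcFst (k := k) (X := X) (K := K)
  letI : Algebra A B := ((Curv2.bcFst k X K).stalkMap y).hom.toAlgebra
  haveI : Module.Flat A B := Flat.stalkMap (Curv2.bcFst k X K) y
  haveI : IsLocalHom (algebraMap A B) := inferInstanceAs (IsLocalHom ((Curv2.bcFst k X K).stalkMap y).hom)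
  haveI : LocallyOfFiniteType (Curv2.bcSnd k X K) := MorphismProperty.of_isPullback (IsPullback.of_hasPullback (X ↘ Spec (CommRingCat.of k)) (Spec.map (CommRingCat.ofHom (algebraMap k K)))) inferInstance
  haveI : IsLocallyNoetherian (Curv2.bc k X K) := LocallyOfFiniteType.isLocallyNoetherian (Curv2.bcSnd k X K)
  haveI : IsNoetherianRing B := inferInstanceAs (IsNoetherianRing ((Curv2.bc k X K).presheaf.stalk y))
  obtain ⟨P, hP, hPm, E, hE⟩ := exists_model k K y
  let EA : B ≃ₐ[A] Localization.AtPrime P := AlgEquiv.ofRingEquiv (f := E) hE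
  have hκ : ∀ (Q : Ideal A') [Q.IsMaximal], ∀ a ∈ maximalIdeal A, algebraMap A (A' ⧸ Q) a = 0 := fun Q _ a ha => by
    have hQ : Q.comap (algebraMap A A') = maximalIdeal A :=
      IsLocalRing.eq_maximalIdeal (Ideal.isMaximal_comap_of_isIntegral_of_isMaximal Q)
    rw [← hQ] at ha
    exact Ideal.Quotient.eq_zero_iff_mem.2 ha
  have hred : ∀ (Q : Ideal A') [Q.IsMaximal], _root_.IsReduced ((A' ⧸ Q) ⊗[A] B) := by
    intro Q _
    letI : Field (A' ⧸ Q) := Ideal.Quotient.field Q
    haveI : IsScalarTower k A (A' ⧸ Q) := inferInstance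
    letI : (Curv2.normalization X).Over (Spec (CommRingCat.of k)) :=
      ⟨Curv2.normalizationι X ≫ (X ↘ (Spec (CommRingCat.of k)))⟩
    obtain ⟨x', hx', g, hg, hgc⟩ := exists_residue_equiv k X x Q
    have h1 := isReduced_tensor_of_geomReduced _ (hsep x' hx') K
    letI := (Curv2.resMap k (Curv2.normalization X) x').toAlgebra
    let e : (Curv2.normalization X).residueField x' ≃ₐ[k] A' ⧸ Q :=
      AlgEquiv.ofRingEquiv (f := RingEquiv.ofBijective g hg) fun c => (hgc c).trans (IsScalarTower.algebraMap_apply k A (A' ⧸ Q) c).symm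
    haveI : _root_.IsReduced ((A' ⧸ Q) ⊗[k] K) :=
      isReduced_of_injective (Algebra.TensorProduct.congr e.symm (AlgEquiv.refl (A₁ := K)))
        (Algebra.TensorProduct.congr e.symm (AlgEquiv.refl (A₁ := K))).injective
    haveI := isReduced_tensor_localization K P (A' ⧸ Q)
    exact isReduced_of_injective (Algebra.TensorProduct.congr (AlgEquiv.refl (R := A) (A₁ := A' ⧸ Q)) EA)
      (Algebra.TensorProduct.congr (AlgEquiv.refl (R := A) (A₁ := A' ⧸ Q)) EA).injective
  have hm : (maximalIdeal A).map (algebraMap A B) = maximalIdeal B := by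
    obtain ⟨Q, hQ⟩ := Ideal.exists_maximal A'
    letI : Field (A' ⧸ Q) := Ideal.Quotient.field Q
    haveI := hred Q
    exact map_maximalIdeal_eq hdx hdy (A' ⧸ Q) (hκ Q)
  refine (deltaInv_eq' (A := A) (B := B) (isNagata_stalk k x) hdx hm fun Q hQ => ?_).symm
  haveI := hred Q
  exact isReduced_residue_tensor hm (A' ⧸ Q) (hκ Q)

end DeltaBaseLib

end
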