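import Groth.Agent.DeltaBCLib.Basic

/-!
# The `δ`-invariant and flat local homomorphisms with geometrically reduced residue extensions
-/

set_option autoImplicit false

universe u

open scoped TensorProduct nonZeroDivisors
open IsLocalRing

noncomputable section

namespace DeltaBaseLib

variable {A : Type u} [CommRing A] [IsLocalRing A] {B : Type u} [CommRing B] [IsLocalRing B] [Algebra A B]
  [IsLocalHom (algebraMap A B)] [Module.Flat A B]

theorem normal_at' {A' : Type u} [CommRing A'] [Algebra A A'] [Module.Finite A A'] [IsNoetherianRing A]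
    [IsNoetherianRing B] (hdim : ringKrullDim A ≤ 1)
    (hnorm : ∀ p : PrimeSpectrum A', IsDomain (Localization.AtPrime p.asIdeal) ∧
      IsIntegrallyClosed (Localization.AtPrime p.asIdeal))
    (hm : (maximalIdeal A).map (algebraMap A B) = maximalIdeal B)
    (hred : ∀ (Q : Ideal A') [Q.IsMaximal], IsReduced (ResidueField B ⊗[A] (A' ⧸ Q)))
    (P : Ideal (B ⊗[A] A')) [hPmax : P.IsMaximal] :
    IsDomain (Localization.AtPrime P) ∧ IsIntegrallyClosed (Localization.AtPrime P) := by
  set C := B ⊗[A] A'
  haveI : IsNoetherianRing A' := isNoetherianRing_iff.2 (isNoetherian_of_tower A inferInstance)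
  haveI : IsNoetherianRing C := isNoetherianRing_iff.2 (isNoetherian_of_tower B inferInstance)
  let ι : A' →ₐ[A] C := Algebra.TensorProduct.includeRight
  let P' : Ideal A' := P.comap ι
  haveI : P'.IsPrime := Ideal.comap_isPrime _ _
  have hPB : P.comap (algebraMap B C) = maximalIdeal B :=
    IsLocalRing.eq_maximalIdeal (Ideal.isMaximal_comap_of_isIntegral_of_isMaximal P)
  have hPA : P'.comap (algebraMap A A') = maximalIdeal A := by
    show (P.comap ι.toRingHom).comap (algebraMap A A') = _
    rw [Ideal.comap_comap, AlgHom.toRingHom_eq_coe, ι.comp_algebraMap, IsScalarTower.algebraMap_eq A B C, ← Ideal.comap_comap, hPB,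
      IsLocalRing.maximalIdeal_comap]
  haveI hP'max : P'.IsMaximal :=
    Ideal.isMaximal_of_isIntegral_of_isMaximal_comap P' (hPA ▸ IsLocalRing.maximalIdeal.isMaximal A)
  have hmP : (maximalIdeal A).map (algebraMap A A') ≤ P' := Ideal.map_le_iff_le_comap.2 hPA.ge
  -- the localisation of the normal ring
  obtain ⟨hD, hI⟩ := hnorm ⟨P', inferInstance⟩
  haveI : IsDomain (Localization.AtPrime P') := hD
  haveI : IsIntegrallyClosed (Localization.AtPrime P') := hI
  haveI : IsNoetherianRing (Localization.AtPrime P') := IsLocalization.isNoetherianRing P'.primeCompl _ inferInstance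
  haveI : Ring.KrullDimLE 1 A' := by
    rw [Ring.krullDimLE_iff]
    exact (CohenLib.ringKrullDim_le_of_isIntegral A A').trans (by exact_mod_cast hdim)
  haveI : Ring.DimensionLEOne (Localization.AtPrime P') := ⟨fun {Q} hQ hQp => by
    haveI := hQp
    have h1 := (IsLocalization.isPrime_iff_isPrime_disjoint P'.primeCompl (Localization.AtPrime P') Q).1 hQp
    have hle : Q.comap (algebraMap A' (Localization.AtPrime P')) ≤ P' := fun x hx => by
      by_contra hxP
      exact Set.disjoint_left.1 h1.2 hxP hx
    rcases (Ring.krullDimLE_one_iff.1 ‹_› _ h1.1) with hmin | hmax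
    · exfalso
      apply hQ
      have h0 : ((⊥ : Ideal (Localization.AtPrime P')).comap (algebraMap A' (Localization.AtPrime P'))).IsPrime :=
        Ideal.comap_isPrime _ _
      have h2 := hmin.2 ⟨h0, bot_le⟩ (Ideal.comap_mono bot_le)
      have h3 : Q.comap (algebraMap A' (Localization.AtPrime P')) =
          (⊥ : Ideal (Localization.AtPrime P')).comap (algebraMap A' (Localization.AtPrime P')) :=
        le_antisymm h2 (Ideal.comap_mono bot_le)
      have h4 := congrArg (Ideal.map (algebraMap A' (Localization.AtPrime P'))) h3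
      exact (IsLocalization.map_under P'.primeCompl _ Q).symm.trans
        (h4.trans (IsLocalization.map_under P'.primeCompl _ ⊥))
    · have h5 := hmax.eq_of_le hP'max.ne_top hle
      have h6 : Q = maximalIdeal (Localization.AtPrime P') :=
        (IsLocalization.map_under P'.primeCompl _ Q).symm.trans
          ((congrArg (Ideal.map (algebraMap A' (Localization.AtPrime P'))) h5).trans
            Localization.AtPrime.map_eq_maximalIdeal)
      rw [h6]; exact IsLocalRing.maximalIdeal.isMaximal _⟩
  haveI : IsDedekindDomain (Localization.AtPrime P') := {}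
  obtain ⟨g, hg⟩ := (IsPrincipalIdealRing.principal (maximalIdeal (Localization.AtPrime P'))).principal
  obtain ⟨⟨a, t⟩, hat⟩ := IsLocalization.surj P'.primeCompl g
  have ha : maximalIdeal (Localization.AtPrime P') = Ideal.span {algebraMap A' (Localization.AtPrime P') a} := by
    rw [← hat, Ideal.span_singleton_mul_right_unit (IsLocalization.map_units (Localization.AtPrime P') t)]
    exact hg
  have haP : a ∈ P' := by
    rw [← IsLocalization.AtPrime.under_maximalIdeal (Localization.AtPrime P') P', Ideal.under_def, Ideal.mem_comap, ha]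
    exact Ideal.mem_span_singleton_self _
  -- the maximal ideal upstairs
  let R := Localization.AtPrime P
  haveI : IsNoetherianRing R := IsLocalization.isNoetherianRing P.primeCompl _ inferInstance
  let f : A' →+* R := (algebraMap C R).comp ι.toRingHom
  have hfP : ∀ t : P'.primeCompl, IsUnit (f t) := fun t =>
    IsLocalization.map_units (M := P.primeCompl) R (⟨ι t, t.2⟩ : P.primeCompl)
  have hmaxR : maximalIdeal R = Ideal.span {f a} := by
    refine le_antisymm ?_ ((Ideal.span_singleton_le_iff_mem _).2 ?_)
    · rw [← Localization.AtPrime.map_eq_maximalIdeal, Ideal.map_le_iff_le_comap]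
      intro x hx
      haveI : IsReduced (ResidueField B ⊗[A] (A' ⧸ P')) := hred P'
      let φ := Algebra.TensorProduct.map (IsScalarTower.toAlgHom A B (ResidueField B)) (Ideal.Quotient.mkₐ A P')
      have hφs : Function.Surjective φ :=
        Algebra.TensorProduct.map_surjective _ _ IsLocalRing.residue_surjective Ideal.Quotient.mk_surjective
      have hker : RingHom.ker φ ≤ P'.map ι := by
        rw [Algebra.TensorProduct.map_ker (f := IsScalarTower.toAlgHom A B (ResidueField B))
          (g := Ideal.Quotient.mkₐ A P') IsLocalRing.residue_surjective Ideal.Quotient.mk_surjective]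
        refine sup_le (Ideal.map_le_iff_le_comap.2 fun b hb => ?_) (le_of_eq ?_)
        · refine DeltaBCLib.mem_map_includeLeft P' hmP ?_
          rw [hm]
          exact IsLocalRing.residue_eq_zero_iff b |>.1 hb
        · rw [show RingHom.ker (Ideal.Quotient.mkₐ A P') = P' from Ideal.mk_ker]
      haveI : (P.map φ).IsPrime := Ideal.map_isPrime_of_surjective hφs
        (hker.trans (Ideal.map_le_iff_le_comap.2 le_rfl))
      obtain ⟨s, hs, hsx⟩ := DeltaBCLib.exists_killing (F := ResidueField B) (P := P.map φ) (Ideal.mem_map_of_mem φ hx)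
      obtain ⟨s, rfl⟩ := hφs s
      have hmem : s * x ∈ P'.map ι := hker (by rw [RingHom.mem_ker, map_mul, hsx])
      have hsP : s ∈ P.primeCompl := fun h => hs (Ideal.mem_map_of_mem φ h)
      have hgen : (P'.map ι).map (algebraMap C R) ≤ Ideal.span {f a} := by
        rw [Ideal.map_le_iff_le_comap, Ideal.map_le_iff_le_comap]
        intro z hz
        simp only [Ideal.mem_comap]
        show f z ∈ _
        have hz' : algebraMap A' (Localization.AtPrime P') z ∈ maximalIdeal (Localization.AtPrime P') :=
          Localization.AtPrime.map_eq_maximalIdeal (I := P') ▸ Ideal.mem_map_of_mem _ hz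
        rw [ha] at hz'
        obtain ⟨w, hw⟩ := Ideal.mem_span_singleton.1 hz'
        have hl := congrArg (IsLocalization.lift hfP) hw
        rw [map_mul, IsLocalization.lift_eq, IsLocalization.lift_eq] at hl
        exact hl ▸ Ideal.mul_mem_right _ _ (Ideal.mem_span_singleton_self _)
      have h7 := hgen (Ideal.mem_map_of_mem (algebraMap C R) hmem)
      rw [map_mul] at h7
      exact (Ideal.unit_mul_mem_iff_mem _ (IsLocalization.map_units (M := P.primeCompl) R (⟨s, hsP⟩ : P.primeCompl))).1 h7
    · rw [← Localization.AtPrime.map_eq_maximalIdeal]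
      exact Ideal.mem_map_of_mem _ haP
  refine DeltaBCLib.normal_of_principal R (f a) hmaxR ?_
  by_cases ha0 : algebraMap A' (Localization.AtPrime P') a = 0
  · left
    have hl := congrArg (IsLocalization.lift hfP) ha0
    rwa [IsLocalization.lift_eq, map_zero] at hl
  right
  -- the annihilator of `a` dies after localisation
  let K := LinearMap.ker (LinearMap.mulLeft A' a)
  obtain ⟨t, htK⟩ : ∃ t : P'.primeCompl, ∀ z, a * z = 0 → (t : A') * z = 0 := by
    obtain ⟨S, hS⟩ := IsNoetherian.noetherian K
    have hloc : ∀ z ∈ K, ∃ t : P'.primeCompl, (t : A') * z = 0 := fun z hz => by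
      refine (IsLocalization.map_eq_zero_iff P'.primeCompl (Localization.AtPrime P') z).1 ?_
      have h1 : algebraMap A' (Localization.AtPrime P') a * algebraMap A' (Localization.AtPrime P') z = 0 := by
        rw [← map_mul, show a * z = 0 from LinearMap.mem_ker.1 hz, map_zero]
      exact (mul_eq_zero.1 h1).resolve_left ha0
    choose τ hτ using hloc
    refine ⟨∏ z ∈ S.attach, τ z.1 (hS ▸ Submodule.subset_span z.2), fun z hz => ?_⟩
    have hzK : z ∈ K := LinearMap.mem_ker.2 hz
    rw [← hS] at hzK
    induction hzK using Submodule.span_induction with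
    | mem z hzS =>
      rw [Submonoid.coe_finset_prod]
      obtain ⟨c, hc⟩ := Finset.dvd_prod_of_mem (fun z : S => ((τ z.1 (hS ▸ Submodule.subset_span z.2)) : A'))
        (Finset.mem_attach S ⟨z, hzS⟩)
      rw [hc, mul_comm _ c, mul_assoc, hτ, mul_zero]
    | zero => rw [mul_zero]
    | add x y hx hy ihx ihy =>
      rw [mul_add, ihx (LinearMap.mem_ker.1 (hS ▸ hx)), ihy (LinearMap.mem_ker.1 (hS ▸ hy)), add_zero]
    | smul c x hx ihx => rw [smul_eq_mul, mul_left_comm, ihx (LinearMap.mem_ker.1 (hS ▸ hx)), mul_zero]
  have hexact : ∀ x : C, ι a * x = 0 → ι (t : A') * x = 0 := by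
    let μ : A' →ₗ[A] A' := LinearMap.mulLeft A a
    have hex : Function.Exact (LinearMap.ker μ).subtype μ := LinearMap.exact_subtype_ker_map μ
    have hex' := Module.Flat.lTensor_exact B hex
    have hμ : ∀ (c : A') (x : C), ι c * x = (LinearMap.mulLeft A c).lTensor B x := fun c x => by
      induction x using TensorProduct.induction_on with
      | zero => simp
      | tmul b z =>
        show (1 : B) ⊗ₜ[A] c * b ⊗ₜ[A] z = _
        rw [Algebra.TensorProduct.tmul_mul_tmul, one_mul]
        rfl
      | add x y hx hy => rw [mul_add, map_add, hx, hy]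
    intro x hx
    rw [hμ] at hx
    obtain ⟨y, rfl⟩ := (hex' x).1 hx
    induction y using TensorProduct.induction_on with
    | zero => simp
    | tmul b z =>
      rw [LinearMap.lTensor_tmul]
      show (1 : B) ⊗ₜ[A] (t : A') * b ⊗ₜ[A] (z : A') = 0
      rw [Algebra.TensorProduct.tmul_mul_tmul, one_mul, htK z.1 (LinearMap.mem_ker.1 z.2), TensorProduct.tmul_zero]
    | add x y hx' hy' =>
      rw [map_add, mul_add, hx' ((hex' _).2 ⟨x, rfl⟩), hy' ((hex' _).2 ⟨y, rfl⟩), add_zero]
  intro x y hxy
  rw [← sub_eq_zero]
  have hz : f a * (x - y) = 0 := by rw [mul_sub, sub_eq_zero]; exact hxy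
  obtain ⟨⟨c, s⟩, hcs⟩ := IsLocalization.surj P.primeCompl (x - y)
  have h1 : algebraMap C R (ι a * c) = 0 := by
    rw [map_mul, ← hcs, ← mul_assoc]
    change f a * (x - y) * _ = 0
    rw [hz, zero_mul]
  obtain ⟨u, hu⟩ := (IsLocalization.map_eq_zero_iff P.primeCompl R _).1 h1
  have h2 : ι (t : A') * (↑u * c) = 0 := hexact _ (by rw [mul_left_comm]; exact hu)
  have h3 : algebraMap C R c = 0 := by
    have h4 := congrArg (algebraMap C R) h2
    rw [map_mul, map_mul, map_zero] at h4
    have hu1 : IsUnit (algebraMap C R (ι (t : A'))) := hfP t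
    have hu2 : IsUnit (algebraMap C R (u : C)) := IsLocalization.map_units R u
    exact hu2.mul_right_eq_zero.1 (hu1.mul_right_eq_zero.1 h4)
  have hs : IsUnit (algebraMap C R (s : C)) := IsLocalization.map_units R s
  exact hs.mul_left_eq_zero.1 (hcs.trans h3)

/-- The base change of the normalisation embeds into the fractions upstairs. -/
theorem exists_psi [IsReduced A] (hN : CAlg.IsNagata A) (hdim : ringKrullDim A = 1) :
    ∃ ψ : B ⊗[A] (integralClosure A (FractionRing A)) →ₐ[B] FractionRing B, Function.Injective ψ := by
  classical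
  haveI := hN.1
  obtain ⟨hfin, hnorm, -⟩ := Groth.Agent.S7652.result A hN hdim
  haveI := hfin
  haveI hff : Module.FaithfullyFlat A B := Module.FaithfullyFlat.of_flat_of_isLocalHom
  set A' := integralClosure A (FractionRing A)
  set C := B ⊗[A] A'
  have hnzd : ∀ s ∈ A⁰, algebraMap A B s ∈ B⁰ := fun s hs => by
    rw [mem_nonZeroDivisors_iff_right]
    intro x hx
    have hreg : IsSMulRegular A s := fun x y h => (isRegular_iff_mem_nonZeroDivisors.2 hs).left h
    have h1 : IsSMulRegular B (algebraMap A B s) := hreg.of_flat
    exact h1 (show algebraMap A B s • x = algebraMap A B s • (0 : B) by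
      rw [smul_zero, smul_eq_mul, mul_comm]; exact hx)
  -- a common denominator
  obtain ⟨gens, hgens⟩ := hfin.fg_top
  obtain ⟨b, hb⟩ := IsLocalization.exist_integer_multiples_of_finset A⁰
    (gens.image fun x : A' => (x : FractionRing A))
  have hsA : ∀ x : A', ∃ c : A, algebraMap A A' b * x = algebraMap A A' c := by
    intro x
    have hx : x ∈ Submodule.span A (gens : Set A') := hgens ▸ Submodule.mem_top
    induction hx using Submodule.span_induction with
    | mem y hy =>
      obtain ⟨c, hc⟩ := hb y (Finset.mem_image_of_mem _ hy)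
      refine ⟨c, Subtype.ext ?_⟩
      rw [Subalgebra.coe_algebraMap]
      refine Eq.trans ?_ hc.symm
      rw [Algebra.smul_def]
      rfl
    | zero => exact ⟨0, by simp⟩
    | add y z _ _ hy hz =>
      obtain ⟨c, hc⟩ := hy; obtain ⟨d, hd⟩ := hz
      exact ⟨c + d, by rw [mul_add, hc, hd, map_add]⟩
    | smul r y _ hy =>
      obtain ⟨c, hc⟩ := hy
      exact ⟨r * c, by rw [Algebra.smul_def, mul_left_comm, hc, map_mul]⟩
  have hsC : ∀ x : C, ∃ c : B, algebraMap A B b • x = algebraMap B C c := by
    intro x
    induction x using TensorProduct.induction_on with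
    | zero => exact ⟨0, by simp⟩
    | tmul c a =>
      obtain ⟨d, hd⟩ := hsA a
      refine ⟨c * algebraMap A B d, ?_⟩
      rw [algebraMap_smul, ← TensorProduct.tmul_smul, Algebra.smul_def, hd, Algebra.TensorProduct.algebraMap_apply,
        Algebra.algebraMap_eq_smul_one d, TensorProduct.tmul_smul, mul_comm c, ← Algebra.smul_def]
      rfl
    | add x y hx hy =>
      obtain ⟨c, hc⟩ := hx; obtain ⟨d, hd⟩ := hy
      exact ⟨c + d, by rw [smul_add, hc, hd, map_add]⟩
  -- the map to fractions
  let jB : FractionRing A →ₐ[A] FractionRing B :=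
    IsLocalization.liftAlgHom (M := A⁰) (f := Algebra.ofId A (FractionRing B)) fun s => by
      rw [Algebra.ofId_apply, IsScalarTower.algebraMap_apply A B (FractionRing B)]
      exact IsLocalization.map_units _ (⟨_, hnzd s s.2⟩ : B⁰)
  let ψ : C →ₐ[B] FractionRing B :=
    Algebra.TensorProduct.lift (Algebra.ofId B (FractionRing B)) (jB.comp A'.val) (fun _ _ => Commute.all _ _)
  have hQinj : Function.Injective (algebraMap B (FractionRing B)) := IsFractionRing.injective _ _
  have hregb : IsSMulRegular A' (b : A) := fun x y h => by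
    refine Subtype.ext ?_
    have h1 := congrArg Subtype.val h
    simp only [Subalgebra.coe_smul, Algebra.smul_def] at h1
    exact (IsLocalization.map_units (FractionRing A) b).mul_left_cancel h1
  have hψ : Function.Injective ψ := by
    refine (injective_iff_map_eq_zero ψ).2 fun x hx => ?_
    obtain ⟨c, hc⟩ := hsC x
    have h1 := congrArg ψ hc
    rw [map_smul, hx, smul_zero, AlgHom.commutes] at h1
    have hc0 : c = 0 := hQinj (h1.symm.trans (map_zero _).symm)
    rw [hc0, map_zero, algebraMap_smul] at hc
    have hinj : Function.Injective ((LinearMap.lsmul A A' (b : A)).lTensor B) :=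
      Module.Flat.lTensor_preserves_injective_linearMap _ hregb
    refine hinj ?_
    rw [map_zero, ← hc]
    clear hc h1 hx
    induction x using TensorProduct.induction_on with
    | zero => simp
    | tmul c a => simp [TensorProduct.tmul_smul]
    | add x y hx hy => rw [map_add, hx, hy, smul_add]
  exact ⟨ψ, hψ⟩

/-- The length of the base change of the cokernel. -/
theorem length_baseChange_coker :
    Module.length B (B ⊗[A] (integralClosure A (FractionRing A)) ⧸
        LinearMap.range (Algebra.linearMap B (B ⊗[A] (integralClosure A (FractionRing A))))) =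
      Curv2.deltaInv A * Module.length B (B ⧸ (maximalIdeal A).map (algebraMap A B)) := by
  set A' := integralClosure A (FractionRing A)
  set C := B ⊗[A] A'
  -- the cokernel
  let q := (LinearMap.range (Algebra.linearMap A A')).mkQ
  have hex : Function.Exact (Algebra.linearMap A A') q := LinearMap.exact_map_mkQ_range _
  let qB := q.baseChange B
  have hexB : Function.Exact ((Algebra.linearMap A A').baseChange B) qB :=
    Module.Flat.lTensor_exact B hex
  have hsB : Function.Surjective qB := LinearMap.lTensor_surjective B (Submodule.mkQ_surjective _)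
  have h1 : LinearMap.range ((Algebra.linearMap A A').baseChange B) = LinearMap.range (Algebra.linearMap B C) := by
    refine le_antisymm ?_ ?_
    · rintro _ ⟨z, rfl⟩
      induction z using TensorProduct.induction_on with
      | zero => rw [map_zero]; exact Submodule.zero_mem _
      | tmul c a =>
        refine ⟨c * algebraMap A B a, ?_⟩
        rw [LinearMap.baseChange_tmul, Algebra.linearMap_apply, Algebra.linearMap_apply,
          Algebra.TensorProduct.algebraMap_apply, Algebra.algebraMap_eq_smul_one (A := A') a, TensorProduct.tmul_smul,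
          mul_comm c, ← Algebra.smul_def]
        rfl
      | add x y hx hy => rw [map_add]; exact add_mem hx hy
    · rintro _ ⟨c, rfl⟩
      refine ⟨c ⊗ₜ 1, ?_⟩
      rw [LinearMap.baseChange_tmul, Algebra.linearMap_apply, map_one, Algebra.linearMap_apply,
        Algebra.TensorProduct.algebraMap_apply]
      rfl
  have E2 : (C ⧸ LinearMap.range (Algebra.linearMap B C)) ≃ₗ[B]
      B ⊗[A] (A' ⧸ LinearMap.range (Algebra.linearMap A A')) :=
    (Submodule.quotEquivOfEq _ _ (h1.symm.trans hexB.linearMap_ker_eq.symm)).trans
      (LinearMap.quotKerEquivOfSurjective qB hsB)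
  rw [E2.length_eq, IsLocalRing.length_baseChange]
  rfl

/-- The `δ`-invariant does not drop along a flat local homomorphism. -/
theorem deltaInv_le [IsReduced A] (hN : CAlg.IsNagata A) (hdim : ringKrullDim A = 1) :
    Curv2.deltaInv A ≤ Curv2.deltaInv B := by
  haveI := hN.1
  obtain ⟨hfin, -, -⟩ := Groth.Agent.S7652.result A hN hdim
  haveI := hfin
  obtain ⟨ψ, hψ⟩ := exists_psi (A := A) (B := B) hN hdim
  let A' := integralClosure A (FractionRing A)
  let C := B ⊗[A] A'
  have hint : ∀ c : C, ψ c ∈ integralClosure B (FractionRing B) := fun c =>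
    (Algebra.IsIntegral.isIntegral (R := B) c).map ψ
  let e : C →ₗ[B] integralClosure B (FractionRing B) := (ψ.codRestrict _ hint).toLinearMap
  have hle : LinearMap.range (Algebra.linearMap B C) =
      (LinearMap.range (Algebra.linearMap B (integralClosure B (FractionRing B)))).comap e := by
    refine le_antisymm ?_ fun c hc => ?_
    · rintro _ ⟨b, rfl⟩
      exact ⟨b, ((ψ.codRestrict _ hint).commutes b).symm⟩
    · obtain ⟨b, hb⟩ := hc
      exact ⟨b, hψ ((ψ.commutes b).trans (congrArg Subtype.val hb))⟩
  have h1 : Module.length B (C ⧸ LinearMap.range (Algebra.linearMap B C)) ≤ Curv2.deltaInv B :=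
    Module.length_le_of_injective (Submodule.mapQ _ _ e hle.le) (by
      rw [← LinearMap.ker_eq_bot, Submodule.mapQ, Submodule.ker_liftQ_eq_bot']
      rw [LinearMap.ker_comp, Submodule.ker_mkQ]
      exact hle)
  rw [length_baseChange_coker] at h1
  refine le_trans ?_ h1
  refine le_mul_of_one_le_right' ?_
  haveI : Nontrivial (B ⧸ (maximalIdeal A).map (algebraMap A B)) := Ideal.Quotient.nontrivial_iff.2 fun htop => by
    have h : (maximalIdeal A).map (algebraMap A B) ≤ maximalIdeal B :=
      Ideal.map_le_iff_le_comap.2 (IsLocalRing.maximalIdeal_comap (algebraMap A B)).ge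
    exact (maximalIdeal.isMaximal B).ne_top (top_le_iff.1 (htop ▸ h))
  exact Order.one_le_iff_pos.2 Module.length_pos

/-- The `δ`-invariant is preserved when the closed fibre is a field and the residue extensions stay reduced. -/
theorem deltaInv_eq' [IsReduced A] (hN : CAlg.IsNagata A) (hdim : ringKrullDim A = 1) [IsNoetherianRing B]
    (hm : (maximalIdeal A).map (algebraMap A B) = maximalIdeal B)
    (hred : ∀ (Q : Ideal (integralClosure A (FractionRing A))) [Q.IsMaximal],
      IsReduced (ResidueField B ⊗[A] ((integralClosure A (FractionRing A)) ⧸ Q))) :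
    Curv2.deltaInv B = Curv2.deltaInv A := by
  classical
  haveI := hN.1
  obtain ⟨hfin, hnorm, -⟩ := Groth.Agent.S7652.result A hN hdim
  haveI := hfin
  set A' := integralClosure A (FractionRing A)
  set C := B ⊗[A] A'
  obtain ⟨ψ, hψ⟩ : ∃ ψ : C →ₐ[B] FractionRing B, Function.Injective ψ := exists_psi (A := A) (B := B) hN hdim
  have hQinj : Function.Injective (algebraMap B (FractionRing B)) := IsFractionRing.injective _ _
  have hCnorm : ∀ (P : Ideal C) [P.IsMaximal],
      IsDomain (Localization.AtPrime P) ∧ IsIntegrallyClosed (Localization.AtPrime P) :=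
    fun P _ => normal_at' (A := A) (B := B) (A' := A') hdim.le hnorm hm hred P
  have hrange : ψ.range = integralClosure B (FractionRing B) := by
    refine le_antisymm ?_ fun q hq => ?_
    · rintro _ ⟨x, rfl⟩
      exact (Algebra.IsIntegral.isIntegral x).map ψ
    · obtain ⟨⟨y, t⟩, hyt⟩ := IsLocalization.surj B⁰ q
      obtain ⟨p, hp, hpq⟩ := hq
      have ht : IsLeftRegular (algebraMap B C t) := fun x z h => hψ (by
        have h1 : ψ (algebraMap B C t * x) = ψ (algebraMap B C t * z) := congrArg ψ h
        rw [map_mul, map_mul, AlgHom.commutes] at h1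
        exact (IsLocalization.map_units (FractionRing B) t).mul_left_cancel h1)
      obtain ⟨c, hc⟩ : algebraMap B C t ∣ algebraMap B C y := by
        refine DeltaBCLib.dvd_of_integral hCnorm ht (hp.map (algebraMap B C)) fun R _ _ r hr hu => ?_
        letI : Algebra B R := ((algebraMap C R).comp (algebraMap B C)).toAlgebra
        rw [Polynomial.aeval_def, Polynomial.eval₂_map,
          show (algebraMap C R).comp (algebraMap B C) = algebraMap B R from rfl, ← Polynomial.aeval_def]
        have htu : IsUnit (algebraMap B R t) := hu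
        -- homogenise
        have h1 : (algebraMap B (FractionRing B) t) ^ p.natDegree * Polynomial.aeval q p = 0 := by
          rw [show Polynomial.aeval q p = 0 from hpq, mul_zero]
        set N := p.natDegree
        let Hm : B := ∑ i ∈ Finset.range (N + 1), p.coeff i * y ^ i * (t : B) ^ (N - i)
        have key : ∀ (S : Type u) [CommRing S] [Algebra B S] (z : S), z * algebraMap B S t = algebraMap B S y →
            (algebraMap B S t) ^ N * Polynomial.aeval z p = algebraMap B S Hm := by
          intro S _ _ z hz
          rw [Polynomial.aeval_eq_sum_range, Finset.mul_sum, map_sum]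
          refine Finset.sum_congr rfl fun i hi => ?_
          rw [map_mul, map_mul, map_pow, map_pow, ← hz, mul_pow, Algebra.smul_def]
          have hiN : i + (N - i) = N := Nat.add_sub_cancel' (Nat.lt_succ_iff.1 (Finset.mem_range.1 hi))
          conv_lhs => rw [← hiN, pow_add]
          ring
        have hHm : Hm = 0 := hQinj (by rw [← key _ q hyt, h1, map_zero])
        have h2 := key R r hr
        rw [hHm, map_zero] at h2
        exact (htu.pow N).mul_right_eq_zero.1 h2
      refine ⟨c, ?_⟩
      have h1 := congrArg ψ hc
      rw [map_mul, AlgHom.commutes, AlgHom.commutes, ← hyt, mul_comm] at h1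
      exact ((IsLocalization.map_units (FractionRing B) t).mul_left_cancel h1).symm
  let e : C ≃ₐ[B] integralClosure B (FractionRing B) :=
    (AlgEquiv.ofInjective ψ hψ).trans (Subalgebra.equivOfEq _ _ hrange)
  have h2 : (LinearMap.range (Algebra.linearMap B C)).map (e.toLinearEquiv : C →ₗ[B] _) =
      LinearMap.range (Algebra.linearMap B (integralClosure B (FractionRing B))) := by
    rw [← LinearMap.range_comp]
    congr 1
    exact LinearMap.ext fun c => e.commutes c
  have E1 := Submodule.Quotient.equiv _ _ e.toLinearEquiv h2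
  rw [Curv2.deltaInv, ← E1.length_eq, length_baseChange_coker, hm]
  haveI : IsSimpleModule B (B ⧸ maximalIdeal B) :=
    isSimpleModule_iff_isCoatom.2 (IsLocalRing.maximalIdeal.isMaximal B).out
  rw [Module.length_eq_one B (B ⧸ maximalIdeal B), mul_one]

end DeltaBaseLib
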