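import Groth.Agent.DeltaBaseLib.Core
import Mathlib.RingTheory.Ideal.GoingDown
import Mathlib.RingTheory.Localization.BaseChange

/-!
# The closed fibre of `A → (A ⊗_k K)_P`
-/

set_option autoImplicit false

universe u

open scoped TensorProduct
open IsLocalRing

noncomputable section

namespace DeltaBaseLib

section Red

variable {k : Type u} [Field k] (K : Type u) [Field K] [Algebra k K] {A : Type u} [CommRing A] [Algebra k A]
variable (P : Ideal (A ⊗[k] K)) [P.IsPrime]

/-- Base change of a localisation of `A ⊗_k K` to a geometrically reduced `A`-algebra stays reduced. -/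
theorem isReduced_tensor_localization (κ : Type u) [CommRing κ] [Algebra k κ] [Algebra A κ] [IsScalarTower k A κ]
    [_root_.IsReduced (κ ⊗[k] K)] : _root_.IsReduced (κ ⊗[A] Localization.AtPrime P) := by
  haveI : _root_.IsReduced (κ ⊗[A] (A ⊗[k] K)) :=
    isReduced_of_injective (Algebra.TensorProduct.cancelBaseChange k A κ κ K)
      (Algebra.TensorProduct.cancelBaseChange k A κ κ K).injective
  let E := IsLocalization.tensorProductEquivOfMapIncludeRight A κ P.primeCompl (Localization.AtPrime P)
    (Localization (P.primeCompl.map (Algebra.TensorProduct.includeRight (R := A) (A := κ) (B := A ⊗[k] K))))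
  exact isReduced_of_injective E E.injective

end Red

variable {A : Type u} [CommRing A] [IsLocalRing A] {B : Type u} [CommRing B] [IsLocalRing B] [Algebra A B]
  [IsLocalHom (algebraMap A B)] [Module.Flat A B]

/-- When neither ring has room for more, the maximal ideal upstairs is minimal over the one downstairs. -/
theorem eq_maximalIdeal_of_map_le (hdA : ringKrullDim A = 1) (hdB : ringKrullDim B = 1)
    (q : Ideal B) [q.IsPrime] (hq : (maximalIdeal A).map (algebraMap A B) ≤ q) : q = maximalIdeal B := by
  by_contra hne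
  have hlt : q < maximalIdeal B := lt_of_le_of_ne (le_maximalIdeal Ideal.IsPrime.ne_top') hne
  have hqA : q.comap (algebraMap A B) = maximalIdeal A :=
    le_antisymm (le_maximalIdeal (Ideal.IsPrime.ne_top (Ideal.comap_isPrime _ _))) (Ideal.map_le_iff_le_comap.1 hq)
  obtain ⟨p, hp, hpm⟩ : ∃ p : Ideal A, p.IsPrime ∧ p < maximalIdeal A := by
    by_contra hno
    push_neg at hno
    haveI : Ring.KrullDimLE 0 A := Ring.KrullDimLE.mk₀ fun p hp => by
      rcases lt_or_eq_of_le (le_maximalIdeal hp.ne_top) with h | h
      · exact absurd h (hno p hp)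
      · rw [h]; exact IsLocalRing.maximalIdeal.isMaximal A
    have h0 : ringKrullDim A ≤ 0 := by exact_mod_cast Ring.krullDimLE_iff.1 (inferInstance : Ring.KrullDimLE 0 A)
    rw [hdA] at h0
    exact absurd h0 (by decide)
  haveI := hp
  haveI : q.LiesOver (maximalIdeal A) := ⟨hqA.symm⟩
  obtain ⟨q', hq'lt, hq', -⟩ := Ideal.exists_ideal_lt_liesOver_of_lt (R := A) q hpm
  haveI := hq'
  haveI : Ring.KrullDimLE 1 B := Ring.krullDimLE_iff.2 (le_of_eq hdB)
  rcases Ring.krullDimLE_one_iff.1 ‹_› q inferInstance with h | h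
  · exact absurd (h.2 ⟨hq', bot_le⟩ hq'lt.le) (not_le_of_gt hq'lt)
  · exact hne (IsLocalRing.eq_maximalIdeal h)

/-- A reduced zero-dimensional fibre is a field. -/
theorem map_maximalIdeal_eq (hdA : ringKrullDim A = 1) (hdB : ringKrullDim B = 1)
    (κ : Type u) [Field κ] [Algebra A κ] (hκ : ∀ a ∈ maximalIdeal A, algebraMap A κ a = 0)
    [_root_.IsReduced (κ ⊗[A] B)] : (maximalIdeal A).map (algebraMap A B) = maximalIdeal B := by
  refine le_antisymm (Ideal.map_le_iff_le_comap.2 (IsLocalRing.maximalIdeal_comap (algebraMap A B)).ge) ?_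
  haveI : Nontrivial (A ⧸ maximalIdeal A) := Ideal.Quotient.nontrivial_iff.2 (maximalIdeal.isMaximal A).ne_top
  letI : Field (A ⧸ maximalIdeal A) := Ideal.Quotient.field _
  let i : A ⧸ maximalIdeal A →ₐ[A] κ := Ideal.Quotient.liftₐ _ (Algebra.ofId A κ) hκ
  have hi : Function.Injective i := (i.toRingHom : A ⧸ maximalIdeal A →+* κ).injective
  let f : B ⊗[A] (A ⧸ maximalIdeal A) →ₐ[A] κ ⊗[A] B :=
    (Algebra.TensorProduct.comm A B κ).toAlgHom.comp (Algebra.TensorProduct.map (AlgHom.id A B) i)
  have hf : Function.Injective f :=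
    (Algebra.TensorProduct.comm A B κ).injective.comp (Module.Flat.lTensor_preserves_injective_linearMap i.toLinearMap hi)
  haveI : _root_.IsReduced (B ⊗[A] (A ⧸ maximalIdeal A)) := isReduced_of_injective f hf
  haveI : _root_.IsReduced (B ⧸ (maximalIdeal A).map (algebraMap A B)) :=
    isReduced_of_injective (Algebra.TensorProduct.quotIdealMapEquivTensorQuot B (maximalIdeal A))
      (Algebra.TensorProduct.quotIdealMapEquivTensorQuot B (maximalIdeal A)).injective
  have hrad := (Ideal.isRadical_iff_quotient_reduced ((maximalIdeal A).map (algebraMap A B))).2 inferInstance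
  refine le_trans ?_ hrad
  rw [Ideal.radical_eq_sInf]
  exact le_sInf fun q hq => (haveI := hq.2; eq_maximalIdeal_of_map_le hdA hdB q hq.1).ge

omit [IsLocalHom (algebraMap A B)] [Module.Flat A B] in
/-- Reducedness over the residue field upstairs. -/
theorem isReduced_residue_tensor (hm : (maximalIdeal A).map (algebraMap A B) = maximalIdeal B)
    (κ : Type u) [CommRing κ] [Algebra A κ] (hκ : ∀ a ∈ maximalIdeal A, algebraMap A κ a = 0)
    [_root_.IsReduced (κ ⊗[A] B)] : _root_.IsReduced (ResidueField B ⊗[A] κ) := by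
  let φ := Algebra.TensorProduct.map (IsScalarTower.toAlgHom A B (ResidueField B)) (AlgHom.id A κ)
  have hs : Function.Surjective φ :=
    Algebra.TensorProduct.map_surjective _ _ IsLocalRing.residue_surjective Function.surjective_id
  have hker : RingHom.ker φ = ⊥ := by
    rw [Algebra.TensorProduct.map_ker (f := IsScalarTower.toAlgHom A B (ResidueField B)) (g := AlgHom.id A κ)
      IsLocalRing.residue_surjective Function.surjective_id]
    refine le_bot_iff.1 (sup_le (Ideal.map_le_iff_le_comap.2 fun b hb => ?_) (Ideal.map_le_iff_le_comap.2 fun c hc => ?_))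
    · have hb' : b ∈ (maximalIdeal A).map (algebraMap A B) := hm ▸ (IsLocalRing.residue_eq_zero_iff b).1 hb
      refine (Ideal.map_le_iff_le_comap.2 (fun a ha => ?_) :
        (maximalIdeal A).map (algebraMap A B) ≤ (⊥ : Ideal (B ⊗[A] κ)).comap Algebra.TensorProduct.includeLeft) hb'
      show (algebraMap A B a) ⊗ₜ[A] (1 : κ) ∈ (⊥ : Ideal (B ⊗[A] κ))
      rw [Ideal.mem_bot, Algebra.algebraMap_eq_smul_one, TensorProduct.smul_tmul, ← Algebra.algebraMap_eq_smul_one,
        hκ a ha, TensorProduct.tmul_zero]
    · rw [show c = 0 from hc]; exact Submodule.zero_mem _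
  let e := AlgEquiv.ofBijective φ ⟨(RingHom.injective_iff_ker_eq_bot φ).2 hker, hs⟩
  let g := (Algebra.TensorProduct.comm A B κ).toAlgHom.comp e.symm.toAlgHom
  exact isReduced_of_injective g ((Algebra.TensorProduct.comm A B κ).injective.comp e.symm.injective)

end DeltaBaseLib
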