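import Groth.Agent.DeltaBaseLib.Res
import Groth.Agent.NormDimOneLib.Cokernel
import Groth.Agent.DepthLib.GeomRk
import Groth.Agent.S1562
import Groth.Agent.CommAlgDim.Regular
import Groth.Agent.S1585
import Groth.Agent.GeomRedFieldLib.Locus
import Groth.Agent.CohenLib.SmoothPoint
import Mathlib.RingTheory.DiscreteValuationRing.TFAE

/-!
# Points of the normalisation with separable residue fields
-/

set_option autoImplicit false
set_option backward.isDefEq.respectTransparency false
set_option linter.style.haveILetI false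

universe u

open CategoryTheory CategoryTheory.Limits AlgebraicGeometry IsLocalRing
open scoped TensorProduct

noncomputable section

namespace DeltaBaseLib

variable (k : Type u) [Field k]

/-- A regular point with geometrically reduced residue field is smooth. -/
theorem mem_smoothLocus_of_regular_geomReduced (X : Scheme.{u}) [X.Over (Spec (CommRingCat.of k))]
    [LocallyOfFinitePresentation (X ↘ (Spec (CommRingCat.of k)))] (x : X) [IsRegularLocalRing (X.presheaf.stalk x)]
    (h : GeometricallyReduced (Spec.map (CommRingCat.ofHom (Curv2.resMap k X x)))) :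
    x ∈ (X ↘ (Spec (CommRingCat.of k))).smoothLocus := by
  let f := X ↘ Spec (CommRingCat.of k)
  obtain ⟨U, hU, hxU, -⟩ := exists_isAffineOpen_mem_and_subset (X := X) (x := x) (U := ⊤) trivial
  obtain ⟨T, _, _, j, hjo, hr, hj⟩ := GeomRedFieldLib.exists_algebra f hU
  haveI := hjo
  haveI := GeomRedFieldLib.finiteType_of_chart f j hj
  obtain ⟨q₀, rfl⟩ : x ∈ Set.range j := by rw [hr]; exact hxU
  let q : PrimeSpectrum T := q₀
  letI := Curv2.stalkAlgebra k X (j q)
  obtain ⟨eA⟩ := GeomRedFieldLib.nonempty_algEquiv_stalk f j hj q (GeomRedFieldLib.fromSpecStalk_comp_over X (j q))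
  letI := Curv2.resAlgebra k X (j q)
  let ψ : q.asIdeal.ResidueField →ₐ[k] X.residueField (j q) :=
    { (IsLocalRing.ResidueField.mapEquiv eA.symm.toRingEquiv).toRingHom with
      commutes' := fun c ↦ by
        show IsLocalRing.ResidueField.mapEquiv eA.symm.toRingEquiv
          (IsLocalRing.residue _ (algebraMap k (Localization.AtPrime q.asIdeal) c)) = _
        rw [← eA.commutes c]
        show IsLocalRing.residue _ (eA.symm (eA (algebraMap k (X.presheaf.stalk (j q)) c))) = _
        rw [AlgEquiv.symm_apply_apply]
        rfl }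
  haveI : _root_.IsReduced (X.residueField (j q) ⊗[k] AlgebraicClosure k) :=
    isReduced_tensor_of_geomReduced _ h (AlgebraicClosure k)
  haveI : Algebra.IsGeometricallyReduced k (X.residueField (j q)) :=
    (Algebra.isGeometricallyReduced_field_iff k _).2
      (isReduced_of_injective (Algebra.TensorProduct.comm k (AlgebraicClosure k) (X.residueField (j q)))
        (Algebra.TensorProduct.comm k (AlgebraicClosure k) (X.residueField (j q))).injective)
  haveI : Algebra.IsGeometricallyReduced k q.asIdeal.ResidueField :=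
    Algebra.IsGeometricallyReduced.of_injective ψ ψ.toRingHom.injective
  show j q ∈ f.smoothLocus
  rw [GeomRedFieldLib.mem_smoothLocus_chart f j hj q, CohenLib.isSmoothAt_iff_isRegularLocalRing k T]
  exact IsRegularLocalRing.of_ringEquiv eA.toRingEquiv

theorem geomRed_geomReg_normalization (X : Scheme.{u}) [X.Over (Spec (CommRingCat.of k))] [AlgebraicGeometry.IsIntegral X]
    [LocallyOfFiniteType (X ↘ (Spec (CommRingCat.of k)))]
    [QuasiCompact (X.fromSpecStalk (genericPoint X))] [QuasiSeparated (X.fromSpecStalk (genericPoint X))]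
    (x : ↥X) (hdim : ringKrullDim ↥(X.presheaf.stalk x) = 1)
    (hsep : letI : (Curv2.normalization X).Over (Spec (CommRingCat.of k)) := ⟨Curv2.normalizationι X ≫ (X ↘ (Spec (CommRingCat.of k)))⟩
      ∀ x' : ↥(Curv2.normalization X), Curv2.normalizationι X x' = x →
        GeometricallyReduced (Spec.map (CommRingCat.ofHom (Curv2.resMap k (Curv2.normalization X) x')))) :
    Curv2.IsGeomReducedAt k X x ∧
      letI : (Curv2.normalization X).Over (Spec (CommRingCat.of k)) := ⟨Curv2.normalizationι X ≫ (X ↘ (Spec (CommRingCat.of k)))⟩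
      ∀ x' : ↥(Curv2.normalization X), Curv2.normalizationι X x' = x → Curv2.IsGeomRegularAt k (Curv2.normalization X) x' := by
  letI : (Curv2.normalization X).Over (Spec (CommRingCat.of k)) := ⟨Curv2.normalizationι X ≫ (X ↘ (Spec (CommRingCat.of k)))⟩
  let N := Curv2.normalization X
  let ν := Curv2.normalizationι X
  obtain ⟨hfin, -, -, hint, hnorm⟩ := Groth.Agent.S1585.result k X
  haveI := hfin
  haveI := hint
  haveI : LocallyOfFiniteType (N ↘ (Spec (CommRingCat.of k))) :=
    inferInstanceAs (LocallyOfFiniteType (ν ≫ (X ↘ (Spec (CommRingCat.of k)))))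
  haveI : IsLocallyNoetherian N := LocallyOfFiniteType.isLocallyNoetherian (N ↘ (Spec (CommRingCat.of k)))
  haveI : LocallyOfFinitePresentation (N ↘ (Spec (CommRingCat.of k))) := inferInstance
  have hgr : ∀ x' : N, ν x' = x → Curv2.IsGeomRegularAt k N x' := by
    intro x' hx'
    obtain ⟨hD, hI⟩ := hnorm x'
    haveI := hD
    haveI := hI
    let R := N.presheaf.stalk x'
    have hle : ringKrullDim R ≤ 1 := by
      have h1 := DepthLib.ringKrullDim_stalk_le_of_integral ν x'
      rw [hx', hdim] at h1
      exact h1
    haveI : Ring.KrullDimLE 1 R := Ring.krullDimLE_iff.2 (by exact_mod_cast hle)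
    haveI : Ring.DimensionLEOne R :=
      ⟨fun {p} hp hpp => Ring.krullDimLE_one_iff_of_noZeroDivisors.1 inferInstance p hp hpp⟩
    haveI : IsDedekindDomain R := {}
    haveI : IsRegularLocalRing R := inferInstance
    exact (Groth.Agent.S1562.result k N x').2 (mem_smoothLocus_of_regular_geomReduced k N x' (hsep x' hx'))
  refine ⟨?_, hgr⟩
  haveI := Groth.Agent.S1585.surjective_ν X
  obtain ⟨x', hx'⟩ := ν.surjective x
  subst hx'
  letI := Curv2.stalkAlgebra k X (ν x')
  letI := Curv2.stalkAlgebra k N x'
  haveI : Algebra.IsGeometricallyReduced k (N.presheaf.stalk x') :=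
    GeomRedFieldLib.isGeometricallyReduced_stalk (N ↘ (Spec (CommRingCat.of k)))
      (GeomRedFieldLib.fromSpecStalk_comp_over N x') fun k' _ _ _ _ y hy => by
        haveI := hgr x' rfl k' (IntermediateField.fg_top_iff.2 inferInstance) y hy
        haveI := CommAlgDim.isDomain_of_isRegularLocalRing ((Curv2.bc k N k').presheaf.stalk y)
        exact (inferInstance : _root_.IsReduced ((Curv2.bc k N k').presheaf.stalk y))
  let φ : X.presheaf.stalk (ν x') →ₐ[k] N.presheaf.stalk x' :=
    { (ν.stalkMap x').hom with
      commutes' := fun c => by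
        show (ν.stalkMap x').hom (X.presheaf.germ ⊤ (ν x') trivial (Coh.toGlobal (X ↘ Spec (CommRingCat.of k)) c)) = _
        rw [Scheme.Hom.germ_stalkMap_apply]
        rfl }
  have hφ : Function.Injective φ := by
    refine (injective_iff_map_eq_zero φ).2 fun a ha => ?_
    obtain ⟨W, hW, r, rfl⟩ := TopCat.Presheaf.germ_exist X.presheaf a
    have ha' : (ν.stalkMap x').hom (X.presheaf.germ W (ν x') hW r) = 0 := ha
    rw [Scheme.Hom.germ_stalkMap_apply] at ha'
    have h1 : (ν.app W).hom r = 0 :=
      germ_injective_of_isIntegral N x' (U := ν ⁻¹ᵁ W) hW (ha'.trans (map_zero _).symm)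
    have h2 : r = 0 := NormDimOneLib.app_injective X W (h1.trans (map_zero _).symm)
    rw [h2, map_zero]
  haveI : Algebra.IsGeometricallyReduced k (X.presheaf.stalk (ν x')) :=
    Algebra.IsGeometricallyReduced.of_injective φ hφ
  intro K _ _ y hy
  exact GeomRedFieldLib.isReduced_stalk_of_geomRed (X ↘ (Spec (CommRingCat.of k)))
    (GeomRedFieldLib.fromSpecStalk_comp_over X (ν x')) _ y hy

end DeltaBaseLib

end
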